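import Groth.Agent.Lib.PhCmp5.Gen
import Groth.Agent.Lib.HPi5.Pi
import Groth.Agent.Lib.HTop26.Site
import Groth.Agent.S7480
import Groth.Agent.S7481
import Groth.Agent.S12238

/-! The comparison situations for the ph and fppf topologies and torsion sheaves. -/

set_option autoImplicit false
set_option linter.style.haveILetI false
set_option linter.unusedSectionVars false
set_option backward.isDefEq.respectTransparency false
set_option backward.isDefEq.respectTransparency.types false

universe u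

open CategoryTheory CategoryTheory.Limits AlgebraicGeometry Opposite TopologicalSpace

noncomputable section

namespace Groth.Agent.PhCmp5

open Groth.Agent.CmpBig24 (Sit Refines rightDerived_iso_of_natIso fToIso)

/-- Finite morphisms and sheaves coming from torsion sheaves. -/
theorem sit_finite {J : GrothendieckTopology Scheme.{u}}
    (hsh : ∀ (X : Scheme.{u}) (F : EtCoh.Ab X),
      Presheaf.IsSheaf (J.over X) ((BigSite.piEtPull Scheme.etalePrecoverage X).obj F).obj) :
    Sit (C := Scheme.{u}) (J := J) (J' := Scheme.etalePrecoverage.toGrothendieck)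
      (fun _ _ f => IsFinite f) fromTors where
  h1 X Y f hf Y' g := by
    refine ⟨pullback g f, pullback.fst g f, pullback.snd g f, IsPullback.of_hasPullback g f, ?_⟩
    have : IsFinite f := hf
    exact MorphismProperty.pullback_fst (P := @IsFinite) g f this
  h2 X Y f F' hF' := fromTors_pullBig f F' hF'
  h3 X F' hF' := by
    obtain ⟨F, -, ⟨e⟩⟩ := hF'
    exact (Presheaf.isSheaf_of_iso_iff ((sheafToPresheaf _ _).mapIso e)).1 (hsh X F)
  h4 X Y f _ hf F' hF' i := by
    haveI : IsFinite f := hf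
    obtain ⟨e⟩ := rightDerived_iso_of_natIso (fToIso Scheme.etalePrecoverage.toGrothendieck f) i
    obtain ⟨F, hF, ⟨eF⟩⟩ := hF'
    obtain ⟨e'⟩ := Groth.Agent.S12238.result f F i
    exact ⟨(EtCoh.Rpush f i).obj F, EtColim.isTorsion_Rpush f hF i,
      ⟨e' ≪≫ (BigSite.RpushBig Scheme.etalePrecoverage f i).mapIso eF ≪≫ e.app F'⟩⟩

theorem hsh_fppf (X : Scheme.{u}) (F : EtCoh.Ab X) :
    Presheaf.IsSheaf (Scheme.fppfPrecoverage.toGrothendieck.over X)
      ((BigSite.piEtPull Scheme.etalePrecoverage X).obj F).obj :=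
  ((FppfPi24.piFppf X).obj F).property

theorem van_fppf (n : ℕ) : CmpBig24.Van CmpBig24.FppfEt.le fromTors.{u} n :=
  CmpBig24.van_all (sit_finite hsh_fppf) CmpBig24.FppfEt.refines n

theorem hsh_ph (X : Scheme.{u}) (F : EtCoh.Ab X) :
    Presheaf.IsSheaf (HTop.phTopology.over X) ((BigSite.piEtPull Scheme.etalePrecoverage X).obj F).obj :=
  HPi5.isSheaf_ph (EtFpqc16.isLocal_pi F)

/-- Proper morphisms and sheaves coming from torsion sheaves. -/
theorem sit_ph (hBC : PBC24.ProperBC.{u}) : Sit (C := Scheme.{u}) (J := HTop.phTopology)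
    (J' := Scheme.etalePrecoverage.toGrothendieck) (fun _ _ f => IsProper f) fromTors where
  h1 X Y f hf Y' g := by
    refine ⟨pullback g f, pullback.fst g f, pullback.snd g f, IsPullback.of_hasPullback g f, ?_⟩
    have : IsProper f := hf
    exact MorphismProperty.pullback_fst (P := @IsProper) g f this
  h2 X Y f F' hF' := fromTors_pullBig f F' hF'
  h3 X F' hF' := by
    obtain ⟨F, -, ⟨e⟩⟩ := hF'
    exact (Presheaf.isSheaf_of_iso_iff ((sheafToPresheaf _ _).mapIso e)).1 (hsh_ph X F)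
  h4 X Y f _ hf F' hF' i := by
    haveI : IsProper f := hf
    obtain ⟨e⟩ := rightDerived_iso_of_natIso (fToIso Scheme.etalePrecoverage.toGrothendieck f) i
    obtain ⟨F, hF, ⟨eF⟩⟩ := hF'
    obtain ⟨e'⟩ := BigPBC5.nonempty_piEtPull_Rpush hBC f i F hF
    exact ⟨(EtCoh.Rpush f i).obj F, EtColim.isTorsion_Rpush f hF i,
      ⟨e' ≪≫ (BigSite.RpushBig Scheme.etalePrecoverage f i).mapIso eF ≪≫ e.app F'⟩⟩

theorem exists_isPhCover_of_mem {U : Scheme.{u}} (S : Sieve U) (hS : S ∈ HTop.phTopology U) :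
    ∃ E : PreZeroHypercover.{u + 1} U, HTop.IsPhCover E ∧ ∀ i, S (E.f i) := by
  induction hS with
  | of X R hR =>
    obtain ⟨E, rfl⟩ := Presieve.exists_eq_preZeroHypercover R
    exact ⟨E, (HTop.presieve₀_mem_phPrecoverage_iff E).1 hR, fun i => Sieve.le_generate _ _ _ ⟨i⟩⟩
  | top X =>
    refine ⟨{ I₀ := PUnit.{u + 2}, X := fun _ => X, f := fun _ => 𝟙 X },
      ⟨fun _ => inferInstanceAs (LocallyOfFiniteType (𝟙 X)), fun U => ?_⟩, fun _ => trivial⟩
    haveI : IsAffine ((U : X.Opens) : Scheme.{u}) := U.2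
    exact ⟨{ I₀ := PUnit.{1}, X := fun _ => ((U : X.Opens) : Scheme.{u}), f := fun _ => 𝟙 _ },
      ⟨inferInstance, inferInstanceAs (Finite PUnit.{1}), fun _ => U.2, _, 𝟙 _, fun _ => 𝟙 _, inferInstance,
        inferInstance, fun _ => inferInstance, fun _ => Category.id_comp _, fun x => ⟨PUnit.unit, x, rfl⟩⟩,
      fun _ => ⟨PUnit.unit, (U : X.Opens).ι, (Category.comp_id _).trans (Category.id_comp _).symm⟩⟩
  | pullback X S _ Y g ih =>
    obtain ⟨E, hE, hS⟩ := ih
    refine ⟨E.pullback₁ g, Groth.Agent.S7480.result g E hE, fun i => ?_⟩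
    show S (pullback.fst g (E.f i) ≫ g)
    rw [pullback.condition]
    exact S.downward_closed (hS i) _
  | transitive X S R _ _ ih1 ih2 =>
    obtain ⟨E, hE, hS⟩ := ih1
    choose F hF hR using fun i => ih2 (hS i)
    exact ⟨E.bind F, Groth.Agent.S7481.result E hE F hF, fun i => hR i.1 i.2⟩

theorem refines_ph : Refines (C := Scheme.{u}) HTop.phTopology Scheme.etalePrecoverage.toGrothendieck
    (fun _ _ f => IsProper f) := by
  intro U S hS
  obtain ⟨E, hE, hES⟩ := exists_isPhCover_of_mem S hS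
  have hV : ∀ x : U, ∃ V : U.Opens, IsAffineOpen V ∧ x ∈ V := fun x => by
    obtain ⟨V, hV, hx, -⟩ := exists_isAffineOpen_mem_and_subset (U := ⊤) (Opens.mem_top x)
    exact ⟨V, hV, hx⟩
  choose V hV hx using hV
  refine ⟨U, fun x => (V x).toScheme, fun x => (V x).ι, UoDesc5.zariski_mem V fun x => ⟨x, hx x⟩, fun x => ?_⟩
  obtain ⟨F, hF, hR⟩ := hE.2 ⟨V x, hV x⟩
  obtain ⟨W, w, ι, hw, hws, hι, hιw, hcov⟩ := hF.exists_proper
  let G : PreZeroHypercover.{u} (V x).toScheme := ⟨PUnit.{u + 1}, fun _ => W, fun _ => w⟩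
  have hG : HTop.IsPhCover G :=
    HTop26.isPhCover_of_proper (fun _ : PUnit.{u + 1} => w) fun t => ⟨PUnit.unit, w.surjective t⟩
  refine ⟨W, w, hw, ?_, ULift.{u} F.I₀, fun k => F.X k.down, fun k => ι k.down, ?_, fun k => ?_⟩
  · refine HTop.phTopology.superset_covering ?_ (Precoverage.generate_mem_toGrothendieck
      ((HTop.presieve₀_mem_phPrecoverage_iff G).2 hG))
    rw [Sieve.generate_le_iff]
    rintro _ _ ⟨_⟩
    exact Sieve.le_generate _ _ _ ⟨PUnit.unit⟩
  · exact Precoverage.generate_mem_toGrothendieck ((Scheme.ofArrows_mem_precoverage_iff _).2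
      ⟨fun p => ⟨⟨(hcov p).choose⟩, (hcov p).choose_spec⟩, fun k => by
        haveI := hι k.down
        exact inferInstanceAs (Etale (ι k.down))⟩)
  · obtain ⟨i, h, hh⟩ := hR k.down
    show S (ι k.down ≫ w ≫ (V x).ι)
    rw [← Category.assoc, hιw, ← hh]
    exact S.downward_closed (hES i) h

theorem van_ph (hBC : PBC24.ProperBC.{u}) (n : ℕ) : CmpBig24.Van HPi5.etale_le_ph fromTors.{u} n :=
  CmpBig24.van_all (sit_ph hBC) refines_ph n

end Groth.Agent.PhCmp5

end
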