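import Groth.Agent.Lib.PhCmp5.H
import Groth.Agent.Lib.CmpBig24.Descent

/-! Cohomological descent from the small étale site to the big h site for torsion sheaves. -/

set_option autoImplicit false
universe u

open CategoryTheory CategoryTheory.Limits AlgebraicGeometry Opposite Abelian
open Groth.Agent.CmpSit16 (Syz syzOf)
open Groth.Agent.CmpBig24 (εX)

set_option linter.style.haveILetI false
set_option linter.unusedSectionVars false
set_option backward.isDefEq.respectTransparency false
set_option backward.isDefEq.respectTransparency.types false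

namespace Groth.Agent.PhCmp5.H

variable (hBC : PBC24.ProperBC.{u}) {X : Scheme.{u}}

variable [HTop.AHCont X]

instance additive_aHPull : (HTop.aHPull X).Additive := (HTop.aHAdj X).left_adjoint_additive

theorem fromEt_aPull (F : EtCoh.Ab X) (hF : EtCoh.IsTorsion F) :
    fromTors X ((εX HPi5.etale_le_h X).obj ((HTop.aHPull X).obj F)) :=
  ⟨F, hF, ⟨((alphaIso HPi5.etale_le_h hsh_h X).app F).symm ≪≫
    ((εX HPi5.etale_le_h X).mapIso ((HPi5.isoH X).app F)).symm⟩⟩

theorem isIso_unit_aAdj : IsIso (HTop.aHAdj X).unit := by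
  obtain ⟨hf, hff⟩ := full_faithful_piJ HPi5.etale_le_h hsh_h X
  haveI : (HPi5.piH X).Full := hf
  haveI : (HPi5.piH X).Faithful := hff
  haveI : (HTop.aHPull X).Full := Functor.Full.of_iso (HPi5.isoH X).symm
  haveI : (HTop.aHPull X).Faithful := Functor.Faithful.of_iso (HPi5.isoH X).symm
  infer_instance

instance preservesFiniteLimits_aHPush : PreservesFiniteLimits (HTop.aHPush X) :=
  haveI := (HTop.aHAdj X).isRightAdjoint
  inferInstance

include hBC in
theorem epi_map (c : Syz (HTop.AbH X)) (hc : fromTors X ((εX HPi5.etale_le_h X).obj (c.S 0))) (m : ℕ) :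
    Epi ((HTop.aHPush X).map (c.p m)) := by
  haveI := CmpBig24.epi_εX_p (van_h hBC (m + 1)) c hc m (Nat.lt_succ_self m)
  exact (inferInstance : Epi ((BigSite.resEt Scheme.etalePrecoverage X).map ((εX HPi5.etale_le_h X).map (c.p m))))

include hBC in
theorem isZero_RaPush (F : EtCoh.Ab X) (hF : EtCoh.IsTorsion F) : ∀ q : ℕ, 0 < q →
    IsZero ((HTop.RaHPush X q).obj ((HTop.aHPull X).obj F))
  | 0, h => absurd h (lt_irrefl 0)
  | m + 1, _ => ((syzOf ((HTop.aHPull X).obj F)).isZero_iff_epi (HTop.aHPush X) m).2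
      (epi_map hBC _ (fromEt_aPull F hF) m)

theorem injective_aPush (I : HTop.AbH X) [Injective I] : Injective ((HTop.aHPush X).obj I) :=
  BigSite16.injective_resEt HTop.hPrecoverage I

include hBC in
/-- the syzygies restricted to the small étale site -/
noncomputable def pushSyz (c : Syz (HTop.AbH X)) (hc : fromTors X ((εX HPi5.etale_le_h X).obj (c.S 0))) : Syz (EtCoh.Ab X) where
  S j := (HTop.aHPush X).obj (c.S j)
  I j := (HTop.aHPush X).obj (c.I j)
  i j := (HTop.aHPush X).map (c.i j)
  p j := (HTop.aHPush X).map (c.p j)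
  w j := by rw [← Functor.map_comp, c.w, Functor.map_zero]
  inj j := haveI := c.inj j; injective_aPush _
  shortExact j := by
    have hl := (HTop.aHPush X).preservesFiniteLimits_iff_forall_exact_map_and_mono.1 inferInstance _
      (c.shortExact j)
    haveI := epi_map hBC c hc j
    exact ShortComplex.ShortExact.mk' hl.1 hl.2 (inferInstanceAs (Epi ((HTop.aHPush X).map (c.p j))))

include hBC in
/-- `Ext` out of pullbacks -/
theorem nonempty_ext_equiv (A : EtCoh.Ab X) (G : HTop.AbH X) (hG : fromTors X ((εX HPi5.etale_le_h X).obj G)) (n : ℕ) :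
    Nonempty (Ext ((HTop.aHPull X).obj A) G n ≃+ Ext A ((HTop.aHPush X).obj G) n) := by
  let adj := HTop.aHAdj X
  cases n with
  | zero => exact ⟨Ext.addEquiv₀.trans ((adj.homAddEquiv A G).trans Ext.addEquiv₀.symm)⟩
  | succ m =>
    let c := syzOf G
    let c' := pushSyz hBC c hG
    let k : ((HTop.aHPull X).obj A ⟶ c.S (m + 1)) →+ Ext ((HTop.aHPull X).obj A) G (m + 1) :=
      AddMonoidHom.mk' (c.classOf _ m) (c.classOf_add _ m)
    let k' : ((HTop.aHPull X).obj A ⟶ c.S (m + 1)) →+ Ext A ((HTop.aHPush X).obj G) (m + 1) :=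
      (AddMonoidHom.mk' (c'.classOf A m) (c'.classOf_add A m)).comp (adj.homAddEquiv A (c.S (m + 1))).toAddMonoidHom
    have hk : Function.Surjective k := c.surjective_classOf _ m
    have hk' : Function.Surjective k' := (c'.surjective_classOf A m).comp (adj.homAddEquiv A _).surjective
    have hker : k.ker = k'.ker := AddSubgroup.ext fun x => by
      refine (c.classOf_eq_zero_iff _ m x).trans (Iff.trans ?_ (c'.classOf_eq_zero_iff A m _).symm)
      constructor
      · rintro ⟨y, rfl⟩
        exact ⟨adj.homEquiv _ _ y, (adj.homEquiv_naturality_right y (c.p m)).symm⟩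
      · rintro ⟨y, hy⟩
        refine ⟨(adj.homEquiv _ _).symm y, (adj.homEquiv _ _).injective ?_⟩
        rw [adj.homEquiv_naturality_right, Equiv.apply_symm_apply]
        exact hy
    exact ⟨(QuotientAddGroup.quotientKerEquivOfSurjective _ hk).symm.trans
      ((QuotientAddGroup.quotientAddEquivOfEq hker).trans (QuotientAddGroup.quotientKerEquivOfSurjective _ hk'))⟩

/-- the constant sheaf comes from the small site -/
noncomputable def constIso (A : AddCommGrpCat.{u + 1}) :
    (constantSheaf (HTop.Jh X) AddCommGrpCat.{u + 1}).obj A ≅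
      (HTop.aHPull X).obj ((constantSheaf X.smallEtaleTopology AddCommGrpCat.{u + 1}).obj A) :=
  (Adjunction.leftAdjointUniq
    (constantSheafAdj (HTop.Jh X) AddCommGrpCat.{u + 1}
      (T := (EtFppf.a X).obj (EtCoh.top X)) Over.mkIdTerminal)
    ((constantSheafAdj X.smallEtaleTopology AddCommGrpCat.{u + 1}
      (T := EtCoh.top X) (MorphismProperty.Over.mkIdTerminal _ X)).comp (HTop.aHAdj X))).app A

include hBC in
theorem nonempty_H_equiv (F : EtCoh.Ab X) (hF : EtCoh.IsTorsion F) (q : ℕ) :
    Nonempty (EtCoh.H X F q ≃+ HTop.HH X ((HTop.aHPull X).obj F) q) := by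
  haveI := isIso_unit_aAdj (X := X)
  let e := constIso (X := X) (AddCommGrpCat.of (ULift.{u + 1} ℤ))
  let u₀ := asIso ((HTop.aHAdj X).unit.app F)
  obtain ⟨h⟩ := nonempty_ext_equiv hBC ((constantSheaf X.smallEtaleTopology AddCommGrpCat.{u + 1}).obj
    (AddCommGrpCat.of (ULift.{u + 1} ℤ))) ((HTop.aHPull X).obj F) (fromEt_aPull F hF) q
  have h1 : Function.Bijective ((Ext.mk₀ u₀.hom).postcomp
      ((constantSheaf X.smallEtaleTopology AddCommGrpCat.{u + 1}).obj (AddCommGrpCat.of (ULift.{u + 1} ℤ))) (add_zero q)) :=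
    Function.bijective_iff_has_inverse.2 ⟨fun y => y.comp (Ext.mk₀ u₀.inv) (add_zero q),
      fun y => by
        show (y.comp (Ext.mk₀ u₀.hom) (add_zero q)).comp (Ext.mk₀ u₀.inv) (add_zero q) = y
        rw [Ext.comp_assoc_of_second_deg_zero, Ext.mk₀_comp_mk₀, u₀.hom_inv_id, Ext.comp_mk₀_id],
      fun y => by
        show (y.comp (Ext.mk₀ u₀.inv) (add_zero q)).comp (Ext.mk₀ u₀.hom) (add_zero q) = y
        rw [Ext.comp_assoc_of_second_deg_zero, Ext.mk₀_comp_mk₀, u₀.inv_hom_id, Ext.comp_mk₀_id]⟩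
  have h2 : Function.Bijective ((Ext.mk₀ e.hom).precomp ((HTop.aHPull X).obj F) (zero_add q)) :=
    Function.bijective_iff_has_inverse.2
      ⟨fun y => (Ext.mk₀ e.inv).comp y (zero_add q),
        fun y => by
          show (Ext.mk₀ e.inv).comp ((Ext.mk₀ e.hom).comp y (zero_add q)) (zero_add q) = y
          rw [Ext.mk₀_comp_mk₀_assoc, e.inv_hom_id, Ext.mk₀_id_comp],
        fun y => by
          show (Ext.mk₀ e.hom).comp ((Ext.mk₀ e.inv).comp y (zero_add q)) (zero_add q) = y
          rw [Ext.mk₀_comp_mk₀_assoc, e.hom_inv_id, Ext.mk₀_id_comp]⟩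
  exact ⟨((AddEquiv.ofBijective _ h1).trans h.symm).trans (AddEquiv.ofBijective _ h2)⟩


end Groth.Agent.PhCmp5.H
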