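import Groth.Agent.Lib.PhCmp5.Tors
import Groth.Agent.Lib.CmpBig24.Main
import Groth.Agent.Lib.CmpSit16.Classes
import Groth.Prelude.Def_EtAcyc

/-!
# Torsion sheaves from the small étale site on a big site finer than the étale one
-/

set_option autoImplicit false
set_option linter.style.haveILetI false
set_option linter.unusedSectionVars false
set_option linter.unusedVariables false
set_option backward.isDefEq.respectTransparency false
set_option backward.isDefEq.respectTransparency.types false

universe u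

open CategoryTheory CategoryTheory.Limits AlgebraicGeometry Opposite Abelian
open Groth.Agent.CmpSit16 (Syz syzOf)
open Groth.Agent.CmpBig24 (εX)

noncomputable section

namespace Groth.Agent.PhCmp5

variable {J : GrothendieckTopology Scheme.{u}} (h : Scheme.etalePrecoverage.{u}.toGrothendieck ≤ J)
  (hsh : ∀ (X : Scheme.{u}) (F : EtCoh.Ab X),
    Presheaf.IsSheaf (J.over X) ((BigSite.piEtPull Scheme.etalePrecoverage X).obj F).obj)

/-- Abelian sheaves on the big site. -/
abbrev AbJ (J : GrothendieckTopology Scheme.{u}) (X : Scheme.{u}) := Sheaf (J.over X) AddCommGrpCat.{u + 1}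

include hsh in
/-- The pullback from the small étale site. -/
def piJ (X : Scheme.{u}) : EtCoh.Ab X ⥤ AbJ J X where
  obj F := ⟨((BigSite.piEtPull Scheme.etalePrecoverage X).obj F).obj, hsh X F⟩
  map φ := ⟨((BigSite.piEtPull Scheme.etalePrecoverage X).map φ).hom⟩
  map_id F := by apply ObjectProperty.hom_ext; exact congrArg (fun t => t.hom) ((BigSite.piEtPull Scheme.etalePrecoverage X).map_id F)
  map_comp φ ψ := by apply ObjectProperty.hom_ext; exact congrArg (fun t => t.hom) ((BigSite.piEtPull Scheme.etalePrecoverage X).map_comp φ ψ)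

/-- Forgetting the topology is fully faithful. -/
def epsFF (X : Scheme.{u}) : (εX h X).FullyFaithful where
  preimage φ := ⟨φ.hom⟩

/-- Forgetting the topology gives the pullback to the big étale site. -/
def alphaIso (X : Scheme.{u}) : piJ hsh X ⋙ εX h X ≅ BigSite.piEtPull Scheme.etalePrecoverage X :=
  NatIso.ofComponents (fun F => (fullyFaithfulSheafToPresheaf _ _).preimageIso (Iso.refl _))
    fun φ => by apply ObjectProperty.hom_ext; ext; simp; rfl

theorem fromTors_piJ {X : Scheme.{u}} (F : EtCoh.Ab X) (hF : EtCoh.IsTorsion F) :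
    fromTors X ((εX h X).obj ((piJ hsh X).obj F)) :=
  ⟨F, hF, ⟨((alphaIso h hsh X).app F).symm⟩⟩

include h in
/-- It is fully faithful. -/
theorem full_faithful_piJ (X : Scheme.{u}) : (piJ hsh X).Full ∧ (piJ hsh X).Faithful := by
  haveI : IsIso (BigSite.piEtAdj Scheme.etalePrecoverage X).unit := NatIso.isIso_of_isIso_app _
  let hπ := (BigSite.piEtAdj Scheme.etalePrecoverage X).fullyFaithfulLOfIsIsoUnit
  haveI := (epsFF h X).faithful
  let hP : (piJ hsh X).FullyFaithful :=
    Functor.FullyFaithful.ofCompFaithful (G := εX h X) (hπ.ofIso (alphaIso h hsh X).symm)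
  exact ⟨hP.full, hP.faithful⟩

include h in
theorem shortExact_piJ {X : Scheme.{u}} (S : ShortComplex (EtCoh.Ab X)) (hS : S.ShortExact)
    [(piJ hsh X).PreservesZeroMorphisms] (hV : CmpBig24.Van h fromTors 1) (h₁ : EtCoh.IsTorsion S.X₁) :
    (S.map (piJ hsh X)).ShortExact := by
  let π := BigSite.piEtPull Scheme.etalePrecoverage X
  haveI : π.Additive := (BigSite.piEtAdj Scheme.etalePrecoverage X).left_adjoint_additive
  haveI : PreservesFiniteColimits π :=
    haveI := (BigSite.piEtAdj Scheme.etalePrecoverage X).isLeftAdjoint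
    inferInstance
  haveI := (epsFF h X).full
  haveI := (epsFF h X).faithful
  let a := alphaIso h hsh X
  have hT : ((S.map (piJ hsh X)).map (εX h X)).ShortExact :=
    ShortComplex.shortExact_of_iso
      (ShortComplex.isoMk (a.app S.X₁).symm (a.app S.X₂).symm (a.app S.X₃).symm
        (a.inv.naturality S.f).symm (a.inv.naturality S.g).symm) (hS.map_of_exact π)
  haveI : Mono (S.map (piJ hsh X)).f := (εX h X).mono_of_mono_map hT.mono_f
  haveI : Epi (S.map (piJ hsh X)).g := (εX h X).epi_of_epi_map hT.epi_g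
  have hex : (S.map (piJ hsh X)).Exact := by
    refine ShortComplex.exact_of_f_is_kernel _ ?_
    exact isLimitOfReflects (εX h X) ((KernelFork.isLimitMapConeEquiv _ (εX h X)).symm hT.fIsKernel)
  exact ShortComplex.ShortExact.mk' hex inferInstance inferInstance

theorem additive_piJ (X : Scheme.{u}) : (piJ hsh X).Additive where
  map_add {F G a b} := by
    haveI : (BigSite.piEtPull Scheme.etalePrecoverage X).Additive :=
      (BigSite.piEtAdj Scheme.etalePrecoverage X).left_adjoint_additive
    apply ObjectProperty.hom_ext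
    exact congrArg (fun t => t.hom) ((BigSite.piEtPull Scheme.etalePrecoverage X).map_add (f := a) (g := b))

/-- The syzygies seen on the big étale site. -/
def epsSyz {X : Scheme.{u}} (hV : ∀ n, CmpBig24.Van h fromTors n) (c : Syz (AbJ J X))
    (hc : fromTors X ((εX h X).obj (c.S 0))) : Syz (BigSite.Ab Scheme.etalePrecoverage X) where
  S j := (εX h X).obj (c.S j)
  I j := (εX h X).obj (c.I j)
  i j := (εX h X).map (c.i j)
  p j := (εX h X).map (c.p j)
  w j := by rw [← Functor.map_comp, c.w, Functor.map_zero]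
  inj j := CmpBig24.injective_εA (CmpBig24.over_le h X) _ (c.inj j)
  shortExact j := CmpBig24.shortExact_εX (hV (j + 1)) c hc j (Nat.lt_succ_self j)

section Push

variable {T S : Scheme.{u}} (f : T ⟶ S)

/-- Direct image on the big sites. -/
abbrev pushJ (J : GrothendieckTopology Scheme.{u}) : AbJ J T ⥤ AbJ J S :=
  (Over.pullback f).sheafPushforwardContinuous AddCommGrpCat.{u + 1} (J.over S) (J.over T)

instance preservesFiniteLimits_pushJ : PreservesFiniteLimits (pushJ f J) :=
  haveI := ((Over.pullback f).sheafAdjunctionContinuous AddCommGrpCat.{u + 1} (J.over S) (J.over T)).isRightAdjoint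
  inferInstance

instance additive_pushJ : (pushJ f J).Additive := Functor.additive_of_preserves_binary_products _

theorem isZero_R_pushJ (hV : ∀ n, CmpBig24.Van h fromTors n) (G : AbJ J T) (hG : fromTors T ((εX h T).obj G))
    (m : ℕ) (hz : IsZero ((BigSite.RpushBig Scheme.etalePrecoverage f (m + 1)).obj ((εX h T).obj G))) :
    IsZero (((pushJ f J).rightDerived (m + 1)).obj G) := by
  haveI : PreservesFiniteLimits (BigSite.pushBig Scheme.etalePrecoverage f AddCommGrpCat.{u + 1}) :=
    haveI := (BigSite.bigAdj Scheme.etalePrecoverage f AddCommGrpCat.{u + 1}).isRightAdjoint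
    inferInstance
  haveI := (epsFF h S).faithful
  let c := syzOf G
  let c' := epsSyz h hV c hG
  have he := (c'.isZero_iff_epi (BigSite.pushBig Scheme.etalePrecoverage f AddCommGrpCat.{u + 1}) m).1 hz
  refine (c.isZero_iff_epi (pushJ f J) m).2 ((εX h S).epi_of_epi_map ?_)
  exact (he : Epi ((εX h S).map ((pushJ f J).map (c.p m))))

variable [IsProper f]

include h in
theorem nonempty_piJ_Rpush (hBC : PBC24.ProperBC.{u}) (hV : ∀ n, CmpBig24.Van h fromTors n) :
    ∀ (q : ℕ) (F : EtCoh.Ab T), EtCoh.IsTorsion F →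
      Nonempty ((piJ hsh S).obj ((EtCoh.Rpush f q).obj F) ≅ ((pushJ f J).rightDerived q).obj ((piJ hsh T).obj F)) := by
  haveI : ∀ Z : Scheme.{u}, IsIso (SmallBigBC16.piAdj AddCommGrpCat.{u + 1} Z).unit := EtFpqc16.isIso_unit
  obtain ⟨e⟩ := SmallBigBC16.nonempty_iso AddCommGrpCat.{u + 1} f fun V g G =>
    Groth.Agent.S0157.result f _ _ g (IsPullback.of_hasPullback f g) G
  let e₀ : EtCoh.push f ⋙ piJ hsh S ≅ piJ hsh T ⋙ pushJ f J :=
    ((epsFF h S).whiskeringRight (EtCoh.Ab T)).preimageIso (X := EtCoh.push f ⋙ piJ hsh S)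
      (Y := piJ hsh T ⋙ pushJ f J)
      (Functor.isoWhiskerLeft (EtCoh.push f) (alphaIso h hsh S) ≪≫ e ≪≫
        Functor.isoWhiskerRight (alphaIso h hsh T).symm
          (BigSite.pushBig Scheme.etalePrecoverage f AddCommGrpCat.{u + 1}))
  haveI : PreservesFiniteLimits (EtCoh.push f) :=
    haveI := (EtCoh.pullPushAdj f).isRightAdjoint
    inferInstance
  haveI := additive_piJ hsh T
  haveI := additive_piJ hsh S
  intro q
  induction q with
  | zero =>
    exact fun F _ => ⟨(piJ hsh S).mapIso ((EtCoh.push f).rightDerivedZeroIsoSelf.app F) ≪≫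
      e₀.app F ≪≫ ((pushJ f J).rightDerivedZeroIsoSelf.app ((piJ hsh T).obj F)).symm⟩
  | succ n ih =>
    intro F hF
    obtain ⟨I, ι, hι, hI, hI0⟩ := TorsAcyc5.exists_torsion_acyclic f F hF
    let Sq : ShortComplex (EtCoh.Ab T) := ShortComplex.mk ι (cokernel.π ι) (cokernel.condition ι)
    have hSq : Sq.ShortExact :=
      ShortComplex.ShortExact.mk' (ShortComplex.exact_of_g_is_cokernel _ (cokernelIsCokernel ι)) hι inferInstance
    have hQ : EtCoh.IsTorsion Sq.X₃ := BigPBC5.isTorsion_of_epi (cokernel.π ι) hI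
    have hπ : (Sq.map (piJ hsh T)).ShortExact := shortExact_piJ h hsh Sq hSq (hV 1) hF
    have hI1 : ∀ k, IsZero (((pushJ f J).rightDerived (k + 1)).obj ((piJ hsh T).obj I)) := fun k => by
      refine isZero_R_pushJ h f hV _ (fromTors_piJ h hsh I hI) k ?_
      exact (BigPBC5.isZero_RpushBig_pi hBC f I hI (k + 1) (hI0 (k + 1) (Nat.succ_pos k))).of_iso
        ((BigSite.RpushBig Scheme.etalePrecoverage f (k + 1)).mapIso ((alphaIso h hsh T).app I))
    cases n with
    | zero =>
      obtain ⟨a⟩ := TorsAcyc5.nonempty_rightDerived_one (EtCoh.push f) Sq hSq (hI0 1 one_pos)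
      obtain ⟨b⟩ := TorsAcyc5.nonempty_rightDerived_one (pushJ f J) (Sq.map (piJ hsh T)) hπ (hI1 0)
      let g := (EtCoh.push f).map Sq.g
      let π' := BigSite.piEtPull Scheme.etalePrecoverage S
      haveI : π'.Additive := (BigSite.piEtAdj Scheme.etalePrecoverage S).left_adjoint_additive
      haveI : PreservesFiniteColimits π' :=
        haveI := (BigSite.piEtAdj Scheme.etalePrecoverage S).isLeftAdjoint
        inferInstance
      haveI := (epsFF h S).full
      haveI := (epsFF h S).faithful
      let x := cokernel.mapIso ((εX h S).map ((piJ hsh S).map g)) (π'.map g)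
        ((alphaIso h hsh S).app _) ((alphaIso h hsh S).app _) ((alphaIso h hsh S).hom.naturality g) ≪≫
        (PreservesCokernel.iso π' g).symm
      have hsheaf : Presheaf.IsSheaf (J.over S) (cokernel ((εX h S).map ((piJ hsh S).map g))).obj :=
        (Presheaf.isSheaf_of_iso_iff ((sheafToPresheaf _ _).mapIso x)).2 (hsh S (cokernel g))
      obtain ⟨-, ⟨y⟩⟩ := CmpBig24.epi_εA_cokernel (CmpBig24.over_le h S) ((piJ hsh S).map g) hsheaf
      let z : cokernel ((piJ hsh S).map g) ≅ (piJ hsh S).obj (cokernel g) :=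
        (epsFF h S).preimageIso (y ≪≫ x ≪≫ ((alphaIso h hsh S).app _).symm)
      exact ⟨(piJ hsh S).mapIso a ≪≫ z.symm ≪≫
        cokernel.mapIso _ _ (e₀.app I) (e₀.app Sq.X₃) (e₀.hom.naturality Sq.g) ≪≫ b.symm⟩
    | succ m =>
      obtain ⟨a⟩ := TorsAcyc5.nonempty_rightDerived_succ (EtCoh.push f) Sq hSq (m + 1) (hI0 _ (Nat.succ_pos _))
        (hI0 _ (Nat.succ_pos _))
      obtain ⟨b⟩ := TorsAcyc5.nonempty_rightDerived_succ (pushJ f J) (Sq.map (piJ hsh T)) hπ (m + 1) (hI1 m) (hI1 (m + 1))
      obtain ⟨c⟩ := ih Sq.X₃ hQ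
      exact ⟨(piJ hsh S).mapIso a.symm ≪≫ c ≪≫ b⟩

end Push

end Groth.Agent.PhCmp5

end
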