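import Groth.Agent.Lib.PhCmp5.Ph
import Groth.Agent.Lib.VRefine5.Main
import Groth.Agent.Lib.VRefine5.HMem

/-! The comparison situation for the h topology and torsion sheaves. -/

set_option autoImplicit false
set_option linter.style.haveILetI false
set_option linter.unusedSectionVars false
set_option backward.isDefEq.respectTransparency false
set_option backward.isDefEq.respectTransparency.types false

universe u

open CategoryTheory CategoryTheory.Limits AlgebraicGeometry Opposite TopologicalSpace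

noncomputable section

namespace Groth.Agent.PhCmp5

open Groth.Agent.CmpBig24 (Sit Refines rightDerived_iso_of_natIso fToIso)

theorem hsh_h (X : Scheme.{u}) (F : EtCoh.Ab X) :
    Presheaf.IsSheaf (HTop.hTopology.over X) ((BigSite.piEtPull Scheme.etalePrecoverage X).obj F).obj :=
  HPi5.isSheaf_h (EtFpqc16.isLocal_pi F)

/-- Proper morphisms and sheaves coming from torsion sheaves. -/
theorem sit_h (hBC : PBC24.ProperBC.{u}) : Sit (C := Scheme.{u}) (J := HTop.hTopology)
    (J' := Scheme.etalePrecoverage.toGrothendieck) (fun _ _ f => IsProper f) fromTors where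
  h1 := (sit_ph hBC).h1
  h2 := (sit_ph hBC).h2
  h3 X F' hF' := by
    obtain ⟨F, -, ⟨e⟩⟩ := hF'
    exact (Presheaf.isSheaf_of_iso_iff ((sheafToPresheaf _ _).mapIso e)).1 (hsh_h X F)
  h4 := (sit_ph hBC).h4

theorem refines_h : Refines (C := Scheme.{u}) HTop.hTopology Scheme.etalePrecoverage.toGrothendieck
    (fun _ _ f => IsProper f) := by
  intro U S hS
  obtain ⟨E, hE, hES⟩ := VRefine5.exists_isHCover_of_mem S hS
  have hV : ∀ x : U, ∃ V : U.Opens, IsAffineOpen V ∧ x ∈ V := fun x => by
    obtain ⟨V, hV, hx, -⟩ := exists_isAffineOpen_mem_and_subset (U := ⊤) (Opens.mem_top x)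
    exact ⟨V, hV, hx⟩
  choose V hV hx using hV
  refine ⟨U, fun x => (V x).toScheme, fun x => (V x).ι, UoDesc5.zariski_mem V fun x => ⟨x, hx x⟩, fun x => ?_⟩
  haveI : IsAffine (V x).toScheme := hV x
  obtain ⟨W, w, n, O, hw, hws, hwfp, -, hsup, hlift⟩ := VRefine5.exists_refinement (V x).ι E hE.1 hE.2
  let G : PreZeroHypercover.{u} (V x).toScheme := ⟨PUnit.{u + 1}, fun _ => W, fun _ => w⟩
  have hG : HTop.IsHCover G :=
    HTop26.isHCover_of_proper (fun _ : PUnit.{u + 1} => w) fun t => ⟨PUnit.unit, w.surjective t⟩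
  refine ⟨W, w, hw, ?_, ULift.{u} (Fin n), fun k => (O k.down).toScheme, fun k => (O k.down).ι, ?_, fun k => ?_⟩
  · refine HTop.hTopology.superset_covering ?_ (Precoverage.generate_mem_toGrothendieck
      ((HTop.presieve₀_mem_hPrecoverage_iff G).2 hG))
    rw [Sieve.generate_le_iff]
    rintro _ _ ⟨_⟩
    exact Sieve.le_generate _ _ _ ⟨PUnit.unit⟩
  · refine UoDesc5.zariski_mem (fun k : ULift.{u} (Fin n) => O k.down) fun p => ?_
    obtain ⟨k, hk⟩ := Opens.mem_iSup.1 (hsup.ge (Opens.mem_top p))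
    exact ⟨⟨k⟩, hk⟩
  · obtain ⟨i, h, hh⟩ := hlift k.down
    show S ((O k.down).ι ≫ w ≫ (V x).ι)
    rw [← hh]
    exact S.downward_closed (hES i) h

theorem van_h (hBC : PBC24.ProperBC.{u}) (n : ℕ) : CmpBig24.Van HPi5.etale_le_h fromTors.{u} n :=
  CmpBig24.van_all (sit_h hBC) refines_h n

end Groth.Agent.PhCmp5

end
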