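import Groth.Agent.Lib.BigPBC5.Main
import Groth.Agent.Lib.CmpBig24.FppfEt

/-! Sheaves on the big étale site coming from torsion sheaves on the small étale site. -/

set_option autoImplicit false
set_option linter.style.haveILetI false
set_option linter.unusedSectionVars false
set_option backward.isDefEq.respectTransparency false
set_option backward.isDefEq.respectTransparency.types false

universe u

open CategoryTheory CategoryTheory.Limits AlgebraicGeometry Opposite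

namespace Groth.Agent.PhCmp5

open Groth.Agent.CmpBig24.FppfEt (fromEt isIso_counit)
open Groth.Agent.BigPBC5 (isTorsion_of_epi)
open Groth.Agent.EtColim (isTorsion_of_iso)
open Groth.Agent.EtStalk

/-- A sheaf with torsion stalks is torsion. -/
theorem isTorsion_of_stalk {X : Scheme.{u}} (F : EtCoh.Ab X)
    (h : ∀ (Ω : Type u) [Field Ω] [IsSepClosed Ω] (ξ : Spec (CommRingCat.of Ω) ⟶ X)
      (p : (EtCoh.stalk ξ).obj F), IsOfFinAddOrder p) : EtCoh.IsTorsion F := by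
  intro U s x
  obtain ⟨φ, hφ⟩ := EtStalk.exists_fib U x
  obtain ⟨N, hN, hN0⟩ := isOfFinAddOrder_iff_nsmul_eq_zero.1 (h _ _ (germ _ F φ s))
  obtain ⟨V, g, hx, he⟩ := (mem_agree_iff_germ F φ (N • s) 0).2 (by rw [map_nsmul, map_zero]; exact hN0)
  refine ⟨V, g, ?_, isOfFinAddOrder_iff_nsmul_eq_zero.2 ⟨N, hN, ?_⟩⟩
  · obtain ⟨v, hv⟩ := hx
    exact ⟨v, hv.trans hφ⟩
  · rw [map_nsmul, map_zero] at he
    exact he

/-- The stalks of a torsion sheaf are torsion. -/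
theorem isOfFinAddOrder_stalk {X : Scheme.{u}} (F : EtCoh.Ab X) (hF : EtCoh.IsTorsion F)
    {Ω : Type u} [Field Ω] [IsSepClosed Ω] (ξ : Spec (CommRingCat.of Ω) ⟶ X) (p : (EtCoh.stalk ξ).obj F) :
    IsOfFinAddOrder p := by
  obtain ⟨U, φ, s, rfl⟩ := germ_surjective _ _ p
  obtain ⟨V, g, ⟨v, hv⟩, hfin⟩ := hF U s (fibPt φ)
  obtain ⟨N, hN, h0⟩ := isOfFinAddOrder_iff_nsmul_eq_zero.1 hfin
  refine isOfFinAddOrder_iff_nsmul_eq_zero.2 ⟨N, hN, ?_⟩
  have h := (mem_agree_iff_germ F φ (N • s) 0).1 ⟨V, g, ⟨v, hv⟩, by rw [map_nsmul, map_zero]; exact h0⟩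
  rwa [map_nsmul, map_zero] at h

/-- Inverse images of torsion sheaves are torsion. -/
theorem isTorsion_pull' {X Y : Scheme.{u}} (f : X ⟶ Y) {F : EtCoh.Ab Y} (hF : EtCoh.IsTorsion F) :
    EtCoh.IsTorsion ((EtCoh.pull f).obj F) :=
  isTorsion_of_stalk _ fun Ω _ _ ξ p => by
    obtain ⟨q, rfl⟩ := ((ConcreteCategory.isIso_iff_bijective (stalkPull f ξ F)).1 inferInstance).2 p
    exact AddMonoidHom.isOfFinAddOrder _ (isOfFinAddOrder_stalk F hF _ q)



variable {X : Scheme.{u}}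

theorem isTorsion_of_mono {F G : EtCoh.Ab X} (φ : F ⟶ G) [Mono φ] (hG : EtCoh.IsTorsion G) :
    EtCoh.IsTorsion F := by
  intro U s x
  obtain ⟨V, g, hv, hfin⟩ := hG U (φ.hom.app (op U) s) x
  refine ⟨V, g, hv, ?_⟩
  haveI : Mono (φ.hom.app (op V)) :=
    inferInstanceAs (Mono (((sheafToPresheaf _ _) ⋙ (evaluation _ _).obj (op V)).map φ))
  rw [← NatTrans.naturality_apply] at hfin
  obtain ⟨n, hn, h⟩ := isOfFinAddOrder_iff_nsmul_eq_zero.1 hfin
  refine isOfFinAddOrder_iff_nsmul_eq_zero.2 ⟨n, hn, (AddCommGrpCat.mono_iff_injective (φ.hom.app (op V))).1 inferInstance ?_⟩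
  rw [map_nsmul, map_zero]
  exact h

theorem isTorsion_ext {S : ShortComplex (EtCoh.Ab X)} (hS : S.ShortExact) (h₁ : EtCoh.IsTorsion S.X₁)
    (h₃ : EtCoh.IsTorsion S.X₃) : EtCoh.IsTorsion S.X₂ := by
  intro U s x
  obtain ⟨V, g, ⟨v, rfl⟩, hfin⟩ := h₃ U (S.g.hom.app (op U) s) x
  rw [← NatTrans.naturality_apply] at hfin
  obtain ⟨n, hn, hns⟩ := isOfFinAddOrder_iff_nsmul_eq_zero.1 hfin
  let t := S.X₂.obj.map g.op s

  let ev := (sheafToPresheaf X.smallEtaleTopology AddCommGrpCat.{u + 1}) ⋙ (evaluation _ _).obj (op V)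
  haveI : ev.Additive := { }
  haveI := hS.mono_f
  have hex' := hS.exact.map_of_mono_of_preservesKernel ev inferInstance inferInstance
  rw [ShortComplex.ab_exact_iff] at hex'
  obtain ⟨r, hr⟩ := hex' (n • t) (by
    show S.g.hom.app (op V) (n • t) = 0
    rw [map_nsmul]
    exact hns)
  obtain ⟨W, h, ⟨w, rfl⟩, hrfin⟩ := h₁ V r v
  obtain ⟨m, hm, hmr⟩ := isOfFinAddOrder_iff_nsmul_eq_zero.1 hrfin
  refine ⟨W, h ≫ g, ⟨w, Scheme.Hom.comp_apply _ _ _⟩, isOfFinAddOrder_iff_nsmul_eq_zero.2 ⟨m * n, Nat.mul_pos hm hn, ?_⟩⟩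
  rw [op_comp, Functor.map_comp, ConcreteCategory.comp_apply, mul_smul, ← map_nsmul (S.X₂.obj.map h.op).hom n]
  change m • S.X₂.obj.map h.op (n • t) = 0
  rw [← hr]
  change m • S.X₂.obj.map h.op (S.f.hom.app (op V) r) = 0
  rw [← NatTrans.naturality_apply, ← map_nsmul, hmr, map_zero]

/-- sheaves coming from torsion sheaves on the small étale site -/
def fromTors (X : Scheme.{u}) : ObjectProperty (BigSite.Ab Scheme.etalePrecoverage X) := fun G =>
  ∃ F : EtCoh.Ab X, EtCoh.IsTorsion F ∧ Nonempty ((BigSite.piEtPull Scheme.etalePrecoverage X).obj F ≅ G)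

theorem fromEt_of_fromTors {G : BigSite.Ab Scheme.etalePrecoverage X} (h : fromTors X G) : fromEt X G := by
  obtain ⟨F, -, e⟩ := h
  exact ⟨F, e⟩

instance : (fromTors X).IsClosedUnderIsomorphisms :=
  ⟨fun e ⟨F, hF, ⟨a⟩⟩ => ⟨F, hF, ⟨a ≪≫ e⟩⟩⟩

open Groth.Agent.CmpBig24 in
instance isWeakSerre_fromTors (X : Scheme.{u}) : WSerre.IsWeakSerre (fromTors X) := by
  let π := BigSite.piEtPull Scheme.etalePrecoverage X
  let adj := BigSite.piEtAdj Scheme.etalePrecoverage X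
  haveI : π.Additive := adj.left_adjoint_additive
  haveI : IsIso adj.unit := NatIso.isIso_of_isIso_app _
  haveI : π.Full := adj.fullyFaithfulLOfIsIsoUnit.full
  haveI : π.Faithful := adj.fullyFaithfulLOfIsIsoUnit.faithful
  haveI : PreservesFiniteColimits π :=
    haveI := adj.isLeftAdjoint
    inferInstance
  refine { toContainsZero := ?_, toIsClosedUnderKernels := ?_, toIsClosedUnderCokernels := ?_,
           toIsClosedUnderExtensions := ?_ }
  · obtain ⟨Z, hZ⟩ := HasZeroObject.zero (C := EtCoh.Ab X)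
    refine ⟨π.obj Z, π.map_isZero hZ, Z, fun U s x => ⟨U, 𝟙 U, ⟨x, rfl⟩, ?_⟩, ⟨Iso.refl _⟩⟩
    haveI : Subsingleton (Z.obj.obj (op U)) := AddCommGrpCat.subsingleton_of_isZero
      ((sheafToPresheaf _ AddCommGrpCat.{u + 1} ⋙ (evaluation _ _).obj (op U)).map_isZero hZ)
    rw [show s = 0 from Subsingleton.elim _ _, map_zero]
    exact IsOfFinAddOrder.zero
  · refine ⟨?_⟩
    rintro _ ⟨f, k, hk, ⟨A, hA, ⟨eA⟩⟩, ⟨B, hB, ⟨eB⟩⟩⟩
    obtain ⟨g, hg⟩ := π.map_surjective (eA.hom ≫ f ≫ eB.inv)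
    exact ⟨kernel g, isTorsion_of_mono (kernel.ι g) hA,
      ⟨PreservesKernel.iso π g ≪≫ kernel.mapIso _ _ eA eB (by rw [hg]; simp) ≪≫
      IsLimit.conePointUniqueUpToIso (limit.isLimit (parallelPair f 0)) hk⟩⟩
  · refine ⟨?_⟩
    rintro _ ⟨f, k, hk, ⟨A, hA, ⟨eA⟩⟩, ⟨B, hB, ⟨eB⟩⟩⟩
    obtain ⟨g, hg⟩ := π.map_surjective (eA.hom ≫ f ≫ eB.inv)
    exact ⟨cokernel g, isTorsion_of_epi (cokernel.π g) hB,
      ⟨PreservesCokernel.iso π g ≪≫ cokernel.mapIso _ _ eA eB (by rw [hg]; simp) ≪≫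
      IsColimit.coconePointUniqueUpToIso (colimit.isColimit (parallelPair f 0)) hk⟩⟩
  · refine ⟨fun {T} hT h₁ h₃ => ?_⟩
    haveI := CmpBig24.FppfEt.isWeakSerre_fromEt X
    obtain ⟨F, ⟨e⟩⟩ := (fromEt X).prop_X₂_of_shortExact hT (fromEt_of_fromTors h₁) (fromEt_of_fromTors h₃)
    obtain ⟨A, hA, ⟨eA⟩⟩ := h₁
    obtain ⟨B, hB, ⟨eB⟩⟩ := h₃
    let res := BigSite.resEt Scheme.etalePrecoverage X
    have ht := hT.map_of_exact res
    refine ⟨F, isTorsion_of_iso ((res.mapIso e).symm ≪≫ (asIso (adj.unit.app F)).symm) (isTorsion_ext ht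
      (isTorsion_of_iso (asIso (adj.unit.app A) ≪≫ res.mapIso eA) hA)
      (isTorsion_of_iso (asIso (adj.unit.app B) ≪≫ res.mapIso eB) hB)), ⟨e⟩⟩

theorem fromTors_pullBig {Y : Scheme.{u}} (f : X ⟶ Y) (G : BigSite.Ab Scheme.etalePrecoverage Y) (hG : fromTors Y G) :
    fromTors X ((BigSite.pullBig Scheme.etalePrecoverage f AddCommGrpCat.{u + 1}).obj G) := by
  obtain ⟨F, hF, ⟨e⟩⟩ := hG
  obtain ⟨F', ⟨e'⟩⟩ := CmpBig24.FppfEt.fromEt_pullBig f G ⟨F, ⟨e⟩⟩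
  obtain ⟨a⟩ := BigPBC5.nonempty_resEtAlong_pi f F
  let res := BigSite.resEt Scheme.etalePrecoverage X
  let adj := BigSite.piEtAdj Scheme.etalePrecoverage X
  exact ⟨F', isTorsion_of_iso (a.symm ≪≫ (BigSite.resEtAlong Scheme.etalePrecoverage f).mapIso e ≪≫
    res.mapIso e'.symm ≪≫ (asIso (adj.unit.app F')).symm) (isTorsion_pull' f hF), ⟨e'⟩⟩

end Groth.Agent.PhCmp5
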